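import Mathlib.RingTheory.Polynomial.Cyclotomic.Eval
import Mathlib.RingTheory.Polynomial.Cyclotomic.Expand
import Mathlib.FieldTheory.Finite.Basic
import Mathlib.Algebra.Ring.GeomSum
import Mathlib.NumberTheory.Multiplicity
import Mathlib.Data.Nat.Totient
import Mathlib.Tactic.IntervalCases

/-! Prime divisors and size of the values `Φ_n(q)` of cyclotomic polynomials. -/

set_option autoImplicit false

namespace CfsgLib.Zsig

open Polynomial Finset

/-- The value of the `n`-th cyclotomic polynomial at `q`. -/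
noncomputable def phiVal (n q : ℕ) : ℕ := ((cyclotomic n ℤ).eval (q : ℤ)).natAbs

theorem phiVal_cast {n q : ℕ} (hq : 2 ≤ q) :
    (phiVal n q : ℤ) = (cyclotomic n ℤ).eval (q : ℤ) := by
  rw [phiVal, Int.natAbs_of_nonneg]
  exact (cyclotomic_pos' n (by exact_mod_cast hq)).le

theorem phiVal_pos {n q : ℕ} (hq : 2 ≤ q) : 0 < phiVal n q := by
  have := cyclotomic_pos' n (show (1 : ℤ) < q by exact_mod_cast hq)
  have h2 := phiVal_cast (n := n) hq
  omega

theorem phiVal_dvd (n : ℕ) {q : ℕ} (hq : 2 ≤ q) : phiVal n q ∣ q ^ n - 1 := by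
  rw [← Int.natCast_dvd_natCast, phiVal_cast hq, Nat.cast_sub (Nat.one_le_pow _ _ (by omega))]
  have h := eval_dvd (x := (q : ℤ)) (cyclotomic.dvd_X_pow_sub_one n ℤ)
  simpa using h

theorem orderOf_eq {p n q j m : ℕ} [Fact p.Prime] (hn : n = p ^ j * m) (hpm : ¬ p ∣ m)
    (hq : 2 ≤ q) (hdvd : p ∣ phiVal n q) : orderOf (q : ZMod p) = m := by
  have : NeZero (m : ZMod p) := ⟨fun h => hpm ((ZMod.natCast_eq_zero_iff _ _).1 h)⟩
  have h : (cyclotomic (p ^ j * m) (ZMod p)).IsRoot (q : ZMod p) := by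
    rw [← hn, IsRoot.def, ← map_cyclotomic_int n (ZMod p), ← Int.cast_natCast,
      show ((q : ℤ) : ZMod p) = Int.castRingHom (ZMod p) (q : ℤ) from rfl, eval_map,
      eval₂_at_apply, ← phiVal_cast hq]
    simpa using (ZMod.natCast_eq_zero_iff _ _).2 hdvd
  exact ((isRoot_cyclotomic_prime_pow_mul_iff_of_charP).1 h).eq_orderOf.symm

/-- A prime divisor of `Φ_n(q)` not dividing `n` is primitive and `1` modulo `n`. -/
theorem primitive {p n q : ℕ} [Fact p.Prime] (hpn : ¬ p ∣ n) (hq : 2 ≤ q)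
    (hdvd : p ∣ phiVal n q) :
    (∀ i : ℕ, 1 ≤ i → i < n → ¬ p ∣ q ^ i - 1) ∧ n ∣ p - 1 := by
  have ho := orderOf_eq (j := 0) (by rw [pow_zero, one_mul]) hpn hq hdvd
  have hn0 : n ≠ 0 := by rintro rfl; exact hpn (dvd_zero p)
  have hne : (q : ZMod p) ≠ 0 := fun h => hn0 (by
    rw [← ho, h, orderOf_eq_zero_iff']
    exact fun k hk => by rw [zero_pow hk.ne']; exact zero_ne_one)
  refine ⟨fun i hi hin hd => ?_, ho ▸ ZMod.orderOf_dvd_card_sub_one hne⟩
  have h2 : ((q : ZMod p)) ^ i = 1 := by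
    have h3 := (ZMod.natCast_eq_zero_iff _ _).2 hd
    rwa [Nat.cast_sub (Nat.one_le_pow _ _ (by omega)), Nat.cast_one, Nat.cast_pow, sub_eq_zero] at h3
  have := Nat.le_of_dvd (by omega) (ho ▸ orderOf_dvd_of_pow_eq_one h2)
  omega

/-- A prime divisor of `Φ_n(q)` dividing `n = p^j m` has `m ∣ p - 1`. -/
theorem cofactor_dvd {p n q j m : ℕ} [Fact p.Prime] (hn : n = p ^ j * m)
    (hpm : ¬ p ∣ m) (hq : 2 ≤ q) (hdvd : p ∣ phiVal n q) : m ∣ p - 1 := by
  have ho := orderOf_eq hn hpm hq hdvd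
  have hm : m ≠ 0 := by rintro rfl; exact hpm (dvd_zero p)
  have hne : (q : ZMod p) ≠ 0 := fun h => hm (by
    rw [← ho, h, orderOf_eq_zero_iff']
    exact fun k hk => by rw [zero_pow hk.ne']; exact zero_ne_one)
  exact ho ▸ ZMod.orderOf_dvd_card_sub_one hne

/-- A prime dividing both `n > 2` and `Φ_n(q)` does so only once. -/
theorem sq_not_dvd {p n q : ℕ} [hp : Fact p.Prime] (hpn : p ∣ n) (hn : 2 < n) (hq : 2 ≤ q)
    (hdvd : p ∣ phiVal n q) : ¬ p ^ 2 ∣ phiVal n q := by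
  intro hsq
  obtain ⟨j, m, hpm, hnm⟩ := Nat.exists_eq_pow_mul_and_not_dvd (show n ≠ 0 by omega) p hp.out.ne_one
  have ho := orderOf_eq hnm hpm hq hdvd
  have hj : j ≠ 0 := by rintro rfl; rw [pow_zero, one_mul] at hnm; exact hpm (hnm ▸ hpn)
  set n' := p ^ (j - 1) * m with hn'
  have hnn' : n = n' * p := by
    rw [hnm, hn', show j = j - 1 + 1 by omega, pow_succ]; simp only [Nat.add_sub_cancel]; ring
  have hmn' : m ∣ n' := dvd_mul_left m _
  have hn'0 : n' ≠ 0 := by rintro h; rw [h, zero_mul] at hnn'; omega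
  set x : ℤ := (q : ℤ) ^ n' with hx
  have hx1 : (p : ℤ) ∣ x - 1 := by
    rw [← ZMod.intCast_zmod_eq_zero_iff_dvd, hx, Int.cast_sub, Int.cast_pow, Int.cast_natCast,
      Int.cast_one, orderOf_dvd_iff_pow_eq_one.1 (ho ▸ hmn'), sub_self]
  have hx2 : x - 1 ≠ 0 := by
    have : (1 : ℤ) < x := one_lt_pow₀ (by exact_mod_cast hq) hn'0
    omega
  have hgeom : (phiVal n q : ℤ) ∣ ∑ i ∈ range p, x ^ i := by
    have hmem : n' ∈ n.properDivisors := Nat.mem_properDivisors.2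
      ⟨⟨p, hnn'⟩, by rw [hnn']; exact lt_mul_of_one_lt_right (Nat.pos_of_ne_zero hn'0) hp.out.one_lt⟩
    have h := eval_dvd (x := (q : ℤ))
      (X_pow_sub_one_mul_cyclotomic_dvd_X_pow_sub_one_of_dvd ℤ hmem)
    simp only [eval_mul, eval_sub, eval_pow, eval_X, eval_one, ← phiVal_cast hq] at h
    have h2 : (q : ℤ) ^ n - 1 = (x - 1) * ∑ i ∈ range p, x ^ i := by
      rw [mul_comm, geom_sum_mul, hx, ← pow_mul, ← hnn']
    rw [h2, ← hx] at h
    exact (mul_dvd_mul_iff_left hx2).1 h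
  have hsq' : ((p : ℤ) ^ 2) ∣ ∑ i ∈ range p, x ^ i :=
    (dvd_trans (by exact_mod_cast hsq) hgeom)
  rcases hp.out.eq_two_or_odd' with rfl | hodd
  · have hm1 : m = 1 := by
      have := cofactor_dvd hnm hpm hq hdvd
      exact Nat.dvd_one.1 this
    subst hm1
    have hev : 2 ∣ n' := by
      rw [hn', mul_one]
      exact dvd_pow_self 2 (fun h => by
        rw [show j = 1 by omega] at hnm; omega)
    obtain ⟨k, hk⟩ := hev
    have hq2 : ¬ (2 : ℤ) ∣ (q : ℤ) := fun h => by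
      have h3 : (2 : ℤ) ∣ x := dvd_pow h hn'0
      have := hx1
      omega
    have h8 : (4 : ℤ) ∣ x - 1 := by
      obtain ⟨c, hc⟩ : ∃ c, (q : ℤ) ^ k = 2 * c + 1 := by
        refine ⟨((q : ℤ) ^ k - 1) / 2, ?_⟩
        have : ¬ (2 : ℤ) ∣ (q : ℤ) ^ k := fun h => hq2 (Int.prime_two.dvd_of_dvd_pow h)
        omega
      refine ⟨c * c + c, ?_⟩
      rw [hx, hk, mul_comm, pow_mul, hc]; ring
    rw [sum_range_succ, sum_range_one] at hsq'
    norm_num at hsq'
    omega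
  · obtain ⟨b, hb⟩ := hx1
    have hx' : x = 1 + (p : ℤ) * b := by omega
    have h := odd_sq_dvd_geom_sum₂_sub (1 : ℤ) b hodd
    simp only [one_pow, mul_one, ← hx'] at h
    have h2 : ((p : ℤ) ^ 2) ∣ (p : ℤ) := by
      have := dvd_sub hsq' h
      simpa using this
    have h3 : p ^ 2 ∣ p := by exact_mod_cast h2
    have := Nat.le_of_dvd hp.out.pos h3
    have := hp.out.two_le
    nlinarith

theorem expand_eval' (r m : ℕ) (hr : r.Prime) (q : ℤ) :
    ∀ a : ℕ, (cyclotomic (r ^ (a + 1) * m) ℤ).eval q = (cyclotomic (r * m) ℤ).eval (q ^ r ^ a) := by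
  intro a
  induction a generalizing q with
  | zero => simp
  | succ a ih =>
    have h := cyclotomic_expand_eq_cyclotomic hr
      (show r ∣ r ^ (a + 1) * m from dvd_mul_of_dvd_left (dvd_pow_self r a.succ_ne_zero) m) ℤ
    rw [show r ^ (a + 1 + 1) * m = r ^ (a + 1) * m * r by ring, ← h, expand_eval, ih, ← pow_mul,
      ← pow_succ']

theorem two_pow (a q : ℕ) (hq : 2 ≤ q) : phiVal (2 ^ (a + 1)) q = q ^ 2 ^ a + 1 := by
  have h := expand_eval' 2 1 Nat.prime_two (q : ℤ) a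
  rw [mul_one, mul_one, cyclotomic_two, eval_add, eval_X, eval_one, ← phiVal_cast hq] at h
  exact_mod_cast h

theorem upper (m : ℕ) {x : ℕ} (hx : 2 ≤ x) : phiVal m x ≤ (x + 1) ^ m.totient := by
  have h := cyclotomic_eval_le_add_one_pow_totient (q := (x : ℝ)) (by exact_mod_cast hx) m
  have h2 : ((phiVal m x : ℤ) : ℝ) = (cyclotomic m ℝ).eval (x : ℝ) := by
    rw [phiVal_cast hx]
    exact (cyclotomic.eval_apply (x : ℤ) m (algebraMap ℤ ℝ)).symm.trans (by simp)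
  rw [← h2, Int.cast_natCast] at h
  exact_mod_cast h

theorem lower (m : ℕ) (hm : 0 < m) {x : ℕ} (hx : 2 ≤ x) : (x - 1) ^ m.totient ≤ phiVal m x := by
  rcases (show m = 1 ∨ 1 < m by omega) with rfl | hm'
  · rw [phiVal, cyclotomic_one, eval_sub, eval_X, eval_one, Nat.totient_one, pow_one]
    omega
  · exact (sub_one_pow_totient_lt_natAbs_cyclotomic_eval hm' (by omega)).le

/-- For `n = r^(a+1) m` with `r ∤ m`, `Φ_n(q) ≥ ((Q^r - 1)/(Q + 1))^φ(m)`, `Q = q^(r^a)`. -/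
theorem ratio {r m a q : ℕ} (hr : r.Prime) (hrm : ¬ r ∣ m) (hq : 2 ≤ q) :
    ((q ^ r ^ a) ^ r - 1) ^ m.totient ≤
      phiVal (r ^ (a + 1) * m) q * (q ^ r ^ a + 1) ^ m.totient := by
  have hm : 0 < m := Nat.pos_of_ne_zero fun h => hrm (h ▸ dvd_zero r)
  set Q := q ^ r ^ a with hQ
  have hQ2 : 2 ≤ Q := hq.trans (Nat.le_self_pow (pow_ne_zero _ hr.ne_zero) q)
  have hQr : 2 ≤ Q ^ r := hQ2.trans (Nat.le_self_pow hr.ne_zero Q)
  have heq : phiVal m (Q ^ r) = phiVal (r ^ (a + 1) * m) q * phiVal m Q := by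
    zify
    rw [phiVal_cast hQr, phiVal_cast hq, phiVal_cast hQ2, expand_eval' r m hr _ a]
    have h := congrArg (eval (Q : ℤ)) (cyclotomic_expand_eq_cyclotomic_mul hr hrm ℤ)
    rw [expand_eval, eval_mul, mul_comm m r] at h
    rw [hQ] at h ⊢
    push_cast at h ⊢
    exact h
  calc (Q ^ r - 1) ^ m.totient ≤ phiVal m (Q ^ r) := lower m hm hQr
    _ = _ := heq
    _ ≤ _ := Nat.mul_le_mul_left _ (upper m hQ2)

theorem base_ineq {Q r : ℕ} (hQ : 2 ≤ Q) (hr : 3 ≤ r) :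
    Q ^ (r - 1) * (Q + 1) ^ 2 ≤ (Q ^ r - 1) ^ 2 := by
  obtain ⟨s, rfl⟩ : ∃ s, r = s + 3 := ⟨r - 3, by omega⟩
  have hs : s + 3 - 1 = s + 2 := by omega
  rw [hs]
  set R := Q ^ (s + 2) with hR
  have hRQ : Q ^ 2 ≤ R := Nat.pow_le_pow_right (by omega) (by omega)
  have h1 : Q ^ (s + 3) = Q * R := by rw [hR, pow_succ' Q (s + 2)]
  rw [h1]
  obtain ⟨u, hu⟩ : ∃ u, Q * R = u + 1 := ⟨Q * R - 1, by
    have : 0 < Q * R := Nat.mul_pos (by omega) (Nat.lt_of_lt_of_le (by positivity) hRQ)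
    omega⟩
  rw [hu, Nat.add_sub_cancel]
  have h5 : Q * Q * (Q * Q) ≤ Q * Q * R := Nat.mul_le_mul_left _ (pow_two Q ▸ hRQ)
  have h6 : Q * Q + 4 * Q + 1 ≤ Q * Q * R := by nlinarith [Nat.mul_le_mul hQ hQ]
  have h7 := Nat.mul_le_mul_left R h6
  have h8 : (Q * R) * (Q * R) = u * u + 2 * u + 1 := by rw [hu]; ring
  nlinarith

/-- `q^φ(n) ≤ Φ_n(q)^2` for `n ≥ 3`. -/
theorem totient_bound {n q : ℕ} (hn : 3 ≤ n) (hq : 2 ≤ q) :
    q ^ n.totient ≤ phiVal n q ^ 2 := by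
  by_cases h : ∃ r, r.Prime ∧ r ≠ 2 ∧ r ∣ n
  · obtain ⟨r, hr, hr2, hrn⟩ := h
    have : Fact r.Prime := ⟨hr⟩
    obtain ⟨j, m, hrm, rfl⟩ := Nat.exists_eq_pow_mul_and_not_dvd (show n ≠ 0 by omega) r hr.ne_one
    obtain ⟨a, rfl⟩ : ∃ a, j = a + 1 := ⟨j - 1, by
      have : j ≠ 0 := by rintro rfl; exact hrm (by simpa using hrn)
      omega⟩
    have hr3 : 3 ≤ r := by have := hr.two_le; omega
    set Q := q ^ r ^ a with hQ
    have hQ2 : 2 ≤ Q := hq.trans (Nat.le_self_pow (pow_ne_zero _ hr.ne_zero) q)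
    have h1 := Nat.pow_le_pow_left (ratio (a := a) hr hrm hq) 2
    have h2 := Nat.pow_le_pow_left (base_ineq hQ2 hr3) m.totient
    have h3 : q ^ (r ^ (a + 1) * m).totient = (Q ^ (r - 1)) ^ m.totient := by
      rw [Nat.totient_mul ((hr.coprime_iff_not_dvd.2 hrm).pow_left _),
        Nat.totient_prime_pow_succ hr, hQ, ← pow_mul, ← pow_mul, mul_assoc]
    rw [h3]
    refine Nat.le_of_mul_le_mul_right ?_ (pow_pos (show 0 < (Q + 1) ^ 2 by positivity) m.totient)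
    calc (Q ^ (r - 1)) ^ m.totient * ((Q + 1) ^ 2) ^ m.totient
        = (Q ^ (r - 1) * (Q + 1) ^ 2) ^ m.totient := (mul_pow _ _ _).symm
      _ ≤ ((Q ^ r - 1) ^ 2) ^ m.totient := h2
      _ = ((Q ^ r - 1) ^ m.totient) ^ 2 := pow_right_comm _ _ _
      _ ≤ _ := h1
      _ = phiVal (r ^ (a + 1) * m) q ^ 2 * ((Q + 1) ^ 2) ^ m.totient := by
        rw [mul_pow, pow_right_comm]
  · push Not at h
    obtain ⟨j, hj⟩ : ∃ j, n = 2 ^ j := ⟨_, Nat.eq_prime_pow_of_unique_prime_dvd (by omega)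
      (fun {d} hd hdn => by by_contra h2; exact h d hd h2 hdn)⟩
    obtain ⟨a, rfl⟩ : ∃ a, j = a + 1 := ⟨j - 1, by
      have : j ≠ 0 := by rintro rfl; simp at hj; omega
      omega⟩
    rw [hj, two_pow a q hq, Nat.totient_prime_pow_succ Nat.prime_two]
    norm_num
    nlinarith

theorem totient_cube (n : ℕ) (hn : 0 < n) : 8 * n ^ 2 ≤
    n.totient ^ 3 * (if 2 ∣ n then 4 else 1) * (if 3 ∣ n then 9 else 8) := by
  induction n using Nat.recOnPosPrimePosCoprime with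
  | zero => omega
  | one => simp
  | prime_pow p k hp hk =>
    obtain ⟨k, rfl⟩ : ∃ l, k = l + 1 := ⟨k - 1, by omega⟩
    rw [Nat.totient_prime_pow_succ hp]
    have key : 8 * p ^ 2 ≤ (p - 1) ^ 3 * (if 2 ∣ p ^ (k + 1) then 4 else 1) *
        (if 3 ∣ p ^ (k + 1) then 9 else 8) := by
      rcases eq_or_ne p 2 with rfl | h2
      · have h1 : (2 : ℕ) ∣ 2 ^ (k + 1) := dvd_pow_self 2 k.succ_ne_zero
        have h3 : ¬ (3 : ℕ) ∣ 2 ^ (k + 1) := fun h => by
          have := Nat.prime_three.dvd_of_dvd_pow h; omega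
        simp [h1, h3]
      rcases eq_or_ne p 3 with rfl | h3
      · have h1 : ¬ (2 : ℕ) ∣ 3 ^ (k + 1) := fun h => by
          have := Nat.prime_two.dvd_of_dvd_pow h; omega
        have h3 : (3 : ℕ) ∣ 3 ^ (k + 1) := dvd_pow_self 3 k.succ_ne_zero
        simp [h1, h3]
      have h1 : ¬ (2 : ℕ) ∣ p ^ (k + 1) := fun h => h2
        ((Nat.prime_dvd_prime_iff_eq Nat.prime_two hp).1 (Nat.prime_two.dvd_of_dvd_pow h)).symm
      have h3' : ¬ (3 : ℕ) ∣ p ^ (k + 1) := fun h => h3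
        ((Nat.prime_dvd_prime_iff_eq Nat.prime_three hp).1 (Nat.prime_three.dvd_of_dvd_pow h)).symm
      simp only [h1, h3', if_false, mul_one]
      have h4 : p ≠ 4 := by rintro rfl; exact absurd hp (by decide)
      have := hp.two_le
      obtain ⟨s, rfl⟩ : ∃ s, p = s + 5 := ⟨p - 5, by omega⟩
      simp only [show s + 5 - 1 = s + 4 by omega]
      nlinarith
    calc 8 * (p ^ (k + 1)) ^ 2 = (p ^ k) ^ 2 * (8 * p ^ 2) := by ring
      _ ≤ (p ^ k) ^ 3 * _ := Nat.mul_le_mul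
          (Nat.pow_le_pow_right (pow_pos hp.pos k) (by omega)) key
      _ = _ := by ring
  | coprime a b ha hb hab iha ihb =>
    have iha := iha (by omega)
    have ihb := ihb (by omega)
    rw [Nat.totient_mul hab]
    have h2 : (if 2 ∣ a then (4 : ℕ) else 1) * (if 2 ∣ b then 4 else 1) =
        if 2 ∣ a * b then 4 else 1 := by
      have : ¬ (2 ∣ a ∧ 2 ∣ b) := fun h =>
        absurd (Nat.dvd_gcd h.1 h.2) (by rw [hab.gcd_eq_one]; decide)
      by_cases x : 2 ∣ a <;> by_cases y : 2 ∣ b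
      · exact absurd ⟨x, y⟩ this
      · simp only [x, y, Nat.Prime.dvd_mul Nat.prime_two, if_true, if_false, true_or]
      · simp only [x, y, Nat.Prime.dvd_mul Nat.prime_two, if_true, if_false, or_true]
      · simp only [x, y, Nat.Prime.dvd_mul Nat.prime_two, if_false, or_self]
    have h3 : (if 3 ∣ a then (9 : ℕ) else 8) * (if 3 ∣ b then 9 else 8) =
        8 * if 3 ∣ a * b then 9 else 8 := by
      have : ¬ (3 ∣ a ∧ 3 ∣ b) := fun h =>
        absurd (Nat.dvd_gcd h.1 h.2) (by rw [hab.gcd_eq_one]; decide)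
      by_cases x : 3 ∣ a <;> by_cases y : 3 ∣ b <;>
        simp_all [Nat.Prime.dvd_mul Nat.prime_three]
    have := Nat.mul_le_mul iha ihb
    refine Nat.le_of_mul_le_mul_left ?_ (show 0 < 8 by norm_num)
    calc 8 * (8 * (a * b) ^ 2) = (8 * a ^ 2) * (8 * b ^ 2) := by ring
      _ ≤ _ := this
      _ = (a.totient * b.totient) ^ 3 * ((if 2 ∣ a then (4 : ℕ) else 1) * (if 2 ∣ b then 4 else 1)) *
          ((if 3 ∣ a then (9 : ℕ) else 8) * (if 3 ∣ b then 9 else 8)) := by ring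
      _ = _ := by rw [h2, h3]; ring

theorem totient_cube' (n : ℕ) (hn : 0 < n) : 2 * n ^ 2 ≤ 9 * n.totient ^ 3 := by
  have h := totient_cube n hn
  split_ifs at h <;> omega

/-- A number all whose prime divisors are simple and lie among the divisors of `N` divides `N`. -/
theorem dvd_of_simple {x N : ℕ} (h : ∀ p, p.Prime → p ∣ x → ¬ p ^ 2 ∣ x ∧ p ∣ N) : x ∣ N := by
  rw [Nat.dvd_iff_prime_pow_dvd_dvd]
  intro p k hp hpk
  rcases (show k = 0 ∨ 1 ≤ k by omega) with rfl | hk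
  · exact (pow_zero p).symm ▸ one_dvd N
  have hpx : p ∣ x := dvd_trans (dvd_pow_self p (by omega)) hpk
  rcases (show k = 1 ∨ 2 ≤ k by omega) with rfl | hk2
  · rw [pow_one]; exact (h p hp hpx).2
  · exact absurd (dvd_trans (pow_dvd_pow p hk2) hpk) (h p hp hpx).1

theorem cube_le_two_pow : ∀ {k : ℕ}, 15 ≤ k → 7 * k ^ 3 < 2 ^ k := by
  intro k hk
  induction k, hk using Nat.le_induction with
  | base => norm_num
  | succ k hk ih => rw [pow_succ 2 k]; nlinarith [Nat.mul_le_mul_right (k * k) hk, Nat.mul_le_mul_right k hk]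

theorem cube_le_two_pow' : ∀ {k : ℕ}, 16 ≤ k → 10 * k ^ 3 < 2 ^ k := by
  intro k hk
  induction k, hk using Nat.le_induction with
  | base => norm_num
  | succ k hk ih => rw [pow_succ 2 k]; nlinarith [Nat.mul_le_mul_right (k * k) hk, Nat.mul_le_mul_right k hk]

end CfsgLib.Zsig
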