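import Mathlib
import Cfsg.Agent.Zsigmondy.Basic

/-!
Lower bound for the primitive part of `q ^ e - 1`.
-/

set_option autoImplicit false

namespace CfsgLib.Zsig

/-- The thirteen exceptional pairs. -/
def exceptions : List (ℕ × ℕ) :=
  [(2, 6), (2, 4), (2, 10), (2, 12), (2, 18), (3, 4), (3, 6), (5, 6), (2, 3), (2, 8), (2, 20), (4, 3), (4, 6)]

/-- The product of `q ^ d - 1` over the proper divisors `d` of `e`, to a high power. -/
def lowPart (q e : ℕ) : ℕ := (((List.range e).filter fun d => e % d == 0).map fun d => q ^ d - 1).prod ^ 12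

/-- The primitive part of `q ^ e - 1`. -/
def primPart (q e : ℕ) : ℕ := (q ^ e - 1) / Nat.gcd (q ^ e - 1) (lowPart q e)

/-- Decidable certificate for one pair. -/
def goodPair (q e : ℕ) : Bool :=
  (q ^ e - 1) % primPart q e == 0 && decide (3 * e + 1 ≤ primPart q e) &&
    (List.range e).all fun i => i == 0 || Nat.gcd (primPart q e) (q ^ i - 1) == 1

theorem of_goodPair {q e : ℕ} (h : goodPair q e = true) :
    ∃ m : ℕ, m ∣ q ^ e - 1 ∧ (∀ i : ℕ, 1 ≤ i → i < e → Nat.Coprime m (q ^ i - 1)) ∧ 3 * e + 1 ≤ m := by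
  simp only [goodPair, Bool.and_eq_true, beq_iff_eq, decide_eq_true_eq, List.all_eq_true, List.mem_range,
    Bool.or_eq_true] at h
  refine ⟨primPart q e, Nat.dvd_of_mod_eq_zero h.1.1, fun i hi hie => ?_, h.1.2⟩
  exact (h.2 i hie).resolve_left (by omega)

theorem large_table : ∀ e < 557, 91 ≤ e → 16 * e ^ 4 ≤ 2 ^ e.totient := by decide +kernel

theorem small_q_bound : ∀ e < 91, 3 ≤ e → 16 * e ^ 4 ≤ 145 ^ e.totient := by decide +kernel

set_option maxRecDepth 100000 in
theorem small_table : ∀ e < 91, ∀ q < 145, 3 ≤ e → 2 ≤ q → q ^ e.totient < 16 * e ^ 4 →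
    (exceptions.contains (q, e) || goodPair q e) = true := by decide +kernel

theorem exception_table : ∀ x ∈ exceptions, primPart x.1 x.2 ≤ 2 * x.2 + 1 ∧ 2 ≤ x.1 ∧ 2 < x.2 := by
  decide +kernel

theorem of_large {q e : ℕ} (hq : 2 ≤ q) (he : 3 ≤ e) (h : 16 * e ^ 4 ≤ q ^ e.totient) :
    ∃ m : ℕ, m ∣ q ^ e - 1 ∧ (∀ i : ℕ, 1 ≤ i → i < e → Nat.Coprime m (q ^ i - 1)) ∧ 3 * e + 1 ≤ m := by
  have hP := phiVal_pos (n := e) hq
  set P := phiVal e q with hPdef
  set g := Nat.gcd P e with hg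
  have hgP : g ∣ P := Nat.gcd_dvd_left _ _
  have hge : g ≤ e := Nat.le_of_dvd (by omega) (Nat.gcd_dvd_right _ _)
  refine ⟨P / g, (Nat.div_dvd_of_dvd hgP).trans (phiVal_dvd e hq), fun i hi hie => ?_, ?_⟩
  · refine Nat.coprime_of_dvd fun p hp hpm hpi => ?_
    haveI := Fact.mk hp
    have hpP : p ∣ P := hpm.trans (Nat.div_dvd_of_dvd hgP)
    have hpe : ¬ p ∣ e := by
      intro hpe
      refine sq_not_dvd hpe (by omega) hq hpP ?_
      rw [← hPdef, ← Nat.div_mul_cancel hgP, pow_two]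
      exact mul_dvd_mul hpm (Nat.dvd_gcd hpP hpe)
    exact (primitive hpe hq hpP).1 i hi hie hpi
  · have h1 : 16 * e ^ 4 ≤ P ^ 2 := h.trans (totient_bound he hq)
    have h2 : (4 * e ^ 2) ^ 2 ≤ P ^ 2 := le_trans (le_of_eq (by ring)) h1
    have h3 := (Nat.pow_le_pow_iff_left (by omega : (2 : ℕ) ≠ 0)).1 h2
    have hg0 : 0 < g := Nat.gcd_pos_of_pos_left _ hP
    rw [Nat.le_div_iff_mul_le hg0]
    nlinarith

theorem six_le_two_pow : ∀ {k : ℕ}, 41 ≤ k → 324 * k ^ 6 ≤ 2 ^ k := by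
  intro k hk
  induction k, hk using Nat.le_induction with
  | base => norm_num
  | succ k hk ih =>
    rw [pow_succ 2 k]
    have h : (k + 1) ^ 6 ≤ 2 * k ^ 6 := by
      have h1 : 10 * (k + 1) ≤ 11 * k := by omega
      have h2 := Nat.pow_le_pow_left h1 6
      rw [mul_pow, mul_pow] at h2
      norm_num at h2
      omega
    omega

theorem exists_primitive_part {q e : ℕ} (hq : 2 ≤ q) (he : 3 ≤ e) (hx : (q, e) ∉ exceptions) :
    ∃ m : ℕ, m ∣ q ^ e - 1 ∧ (∀ i : ℕ, 1 ≤ i → i < e → Nat.Coprime m (q ^ i - 1)) ∧ 3 * e + 1 ≤ m := by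
  by_cases h91 : e < 91
  · by_cases h : 16 * e ^ 4 ≤ q ^ e.totient
    · exact of_large hq he h
    · push Not at h
      have hq145 : q < 145 := by
        by_contra hge
        exact absurd ((small_q_bound e h91 he).trans (Nat.pow_le_pow_left (not_lt.1 hge) _)) (not_le.2 h)
      have := small_table e h91 q hq145 he hq h
      rw [Bool.or_eq_true] at this
      rcases this with h' | h'
      · exact absurd (List.contains_iff_mem.1 h') hx
      · exact of_goodPair h'
  · refine of_large hq he (le_trans ?_ (Nat.pow_le_pow_left hq e.totient))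
    by_cases h557 : e < 557
    · exact large_table e h557 (by omega)
    · have h1 := totient_cube' e (by omega)
      have h2 : 41 ≤ e.totient := by
        by_contra hlt
        have : e.totient ^ 3 ≤ 40 ^ 3 := Nat.pow_le_pow_left (by omega) 3
        nlinarith [Nat.mul_le_mul (not_lt.1 h557) (not_lt.1 h557)]
      have h3 : 4 * e ^ 4 ≤ 81 * e.totient ^ 6 := by
        have := Nat.mul_le_mul h1 h1
        calc 4 * e ^ 4 = (2 * e ^ 2) * (2 * e ^ 2) := by ring
          _ ≤ _ := this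
          _ = _ := by ring
      exact le_trans (by linarith) (six_le_two_pow h2)

theorem exceptional_bound {q e m : ℕ} (hx : (q, e) ∈ exceptions) (hm : m ∣ q ^ e - 1)
    (hc : ∀ i : ℕ, 1 ≤ i → i < e → Nat.Coprime m (q ^ i - 1)) : m ≤ 2 * e + 1 := by
  obtain ⟨hb, hq, he⟩ := exception_table (q, e) hx
  have hcop : Nat.Coprime m (lowPart q e) := by
    refine Nat.Coprime.pow_right _ (Nat.coprime_list_prod_right_iff.2 fun x hxm => ?_)
    obtain ⟨d, hd, rfl⟩ := List.mem_map.1 hxm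
    simp only [List.mem_filter, List.mem_range, beq_iff_eq] at hd
    rcases Nat.eq_zero_or_pos d with rfl | hd0
    · simp at hd; simp only at he; omega
    · exact hc d hd0 hd.1
  have hN : q ^ e - 1 ≠ 0 := by
    have := Nat.one_lt_pow (show e ≠ 0 by simp only at he; omega) (show 1 < q from hq)
    omega
  have hdvd : m ∣ primPart q e := by
    have h1 : m.Coprime (Nat.gcd (q ^ e - 1) (lowPart q e)) := hcop.coprime_dvd_right (Nat.gcd_dvd_right _ _)
    refine h1.dvd_of_dvd_mul_right ?_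
    rw [primPart, Nat.div_mul_cancel (Nat.gcd_dvd_left _ _)]
    exact hm
  refine (Nat.le_of_dvd ?_ hdvd).trans hb
  exact Nat.div_pos (Nat.le_of_dvd (Nat.pos_of_ne_zero hN) (Nat.gcd_dvd_left _ _))
    (Nat.gcd_pos_of_pos_left _ (Nat.pos_of_ne_zero hN))

end CfsgLib.Zsig
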